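import Groth.Prelude.Def_W4c2azumayainvolQEt
import Mathlib

/-! Quadratic etale algebras and involutions. -/

universe u v

namespace Groth.Agent.RInvLib

open RInv IsLocalRing

variable {S : Type u} {R : Type v} [CommRing S] [CommRing R] [Algebra S R] {lam : R ≃+* R}

theorem lam_algebraMap (hS : IsFixedRing S R lam) (s : S) : lam (algebraMap S R s) = algebraMap S R s :=
  (hS.2 _).mpr ⟨s, rfl⟩

/-- An element with unit difference gives a basis. -/
theorem isQuadEtale_of_unit (hlam : Function.Involutive lam) (hS : IsFixedRing S R lam) {r : R}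
    (hr : IsUnit (r - lam r)) : IsQuadEtale S R := by
  obtain ⟨u, hu⟩ := hr
  have hlu : lam (u : R) = -(u : R) := by rw [hu, map_sub, hlam r]; ring
  have hspan : ∀ x : R, ∃ s₀ s₁ : S, x = algebraMap S R s₀ + algebraMap S R s₁ * r := by
    intro x
    set c := (x - lam x) * ((u⁻¹ : Rˣ) : R) with hc
    have hlui : lam ((u⁻¹ : Rˣ) : R) = -((u⁻¹ : Rˣ) : R) := by
      have h1 : lam ((u⁻¹ : Rˣ) : R) * lam (u : R) = 1 := by rw [← map_mul, Units.inv_mul, map_one]
      rw [hlu] at h1
      calc lam ((u⁻¹ : Rˣ) : R) = lam ((u⁻¹ : Rˣ) : R) * ((u : R) * ((u⁻¹ : Rˣ) : R)) := by rw [Units.mul_inv, mul_one]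
        _ = -(lam ((u⁻¹ : Rˣ) : R) * -(u : R) * ((u⁻¹ : Rˣ) : R)) := by ring
        _ = -((u⁻¹ : Rˣ) : R) := by rw [h1, one_mul]
    obtain ⟨s₁, hs₁⟩ := (hS.2 c).mp (by rw [hc, map_mul, map_sub, hlam x, hlui]; ring)
    obtain ⟨s₀, hs₀⟩ := (hS.2 (x - c * r)).mp (by
      have h1 : lam c = c := by rw [← hs₁]; exact lam_algebraMap hS s₁
      have h2 : c * (u : R) = x - lam x := by rw [hc, mul_assoc, Units.inv_mul, mul_one]
      rw [map_sub, map_mul, h1]
      linear_combination h2 - c * hu)
    exact ⟨s₀, s₁, by rw [hs₀, hs₁]; ring⟩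
  have hli : LinearIndependent S ![(1 : R), r] := by
    refine LinearIndependent.pair_iff.mpr fun a b hab => ?_
    rw [Algebra.smul_def, Algebra.smul_def, mul_one] at hab
    have h1 := congrArg lam hab
    rw [map_add, map_mul, map_zero, lam_algebraMap hS, lam_algebraMap hS] at h1
    have h2 : algebraMap S R b * (u : R) = 0 := by rw [hu]; linear_combination hab - h1
    have hb : b = 0 := hS.1 (by rw [map_zero]; exact u.isUnit.mul_left_eq_zero.mp h2)
    rw [hb, map_zero, zero_mul, add_zero] at hab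
    exact ⟨hS.1 (by rw [map_zero, hab]), hb⟩
  have htop : ⊤ ≤ Submodule.span S (Set.range ![(1 : R), r]) := fun x _ => by
    obtain ⟨s₀, s₁, rfl⟩ := hspan x
    refine (Submodule.mem_span_range_iff_exists_fun S).mpr ⟨![s₀, s₁], ?_⟩
    simp [Fin.sum_univ_two, Algebra.smul_def]
  let b := Module.Basis.mk hli htop
  have : Module.Free S R := Module.Free.of_basis b
  have : Module.Finite S R := Module.Finite.of_basis b
  obtain ⟨t, ht⟩ := (hS.2 (r + lam r)).mp (by rw [map_add, hlam r]; ring)
  obtain ⟨n, hn⟩ := (hS.2 (r * lam r)).mp (by rw [map_mul, hlam r]; ring)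
  refine ⟨inferInstance, inferInstance, ⟨subsingleton_of_forall_eq 0 fun w => ?_⟩, fun p => ?_⟩
  · have hDr : KaehlerDifferential.D S R r = 0 := by
      have h1 := congrArg (KaehlerDifferential.D S R) (show r * r - algebraMap S R t * r + algebraMap S R n = 0 by rw [ht, hn]; ring)
      simp only [map_add, map_sub, map_zero, Derivation.leibniz, Derivation.map_algebraMap, smul_zero, add_zero, ← add_smul, ← sub_smul] at h1
      rw [show r + r - algebraMap S R t = (u : R) by rw [hu, ht]; ring] at h1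
      exact u.isUnit.smul_eq_zero.mp h1
    have htop' : (⊤ : Submodule R (KaehlerDifferential S R)) ≤ ⊥ := by
      rw [← KaehlerDifferential.span_range_derivation, Submodule.span_le]
      rintro _ ⟨x, rfl⟩
      obtain ⟨s₀, s₁, rfl⟩ := hspan x
      simp [hDr]
    exact htop' trivial
  · have : Nontrivial S := p.nontrivial
    rw [Module.rankAtStalk_eq_finrank_of_free, Module.finrank_eq_card_basis b]
    simp

theorem exists_trace_norm (hlam : Function.Involutive lam) (hS : IsFixedRing S R lam) (x : R) :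
    ∃ t n : S, algebraMap S R t = x + lam x ∧ algebraMap S R n = x * lam x := by
  obtain ⟨t, ht⟩ := (hS.2 (x + lam x)).mp (by rw [map_add, hlam x]; ring)
  obtain ⟨n, hn⟩ := (hS.2 (x * lam x)).mp (by rw [map_mul, hlam x]; ring)
  exact ⟨t, n, ht, hn⟩

theorem isIntegral_fixed (hlam : Function.Involutive lam) (hS : IsFixedRing S R lam) : Algebra.IsIntegral S R := by
  refine ⟨fun x => ?_⟩
  obtain ⟨t, n, ht, hn⟩ := exists_trace_norm hlam hS x
  refine ⟨Polynomial.X ^ 2 + (Polynomial.C (-t) * Polynomial.X + Polynomial.C n),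
    Polynomial.monic_X_pow_add (lt_of_le_of_lt Polynomial.degree_linear_le (by norm_num)), ?_⟩
  simp [ht, hn]; ring

variable [IsLocalRing S]

theorem comap_maximal (hlam : Function.Involutive lam) (hS : IsFixedRing S R lam) (M : Ideal R) [M.IsMaximal] :
    M.comap (algebraMap S R) = maximalIdeal S := by
  have := isIntegral_fixed hlam hS
  exact IsLocalRing.eq_maximalIdeal (Ideal.isMaximal_comap_of_isIntegral_of_isMaximal M)

theorem eq_or_eq_comap (hlam : Function.Involutive lam) (hS : IsFixedRing S R lam) (M M' : Ideal R) [M.IsMaximal]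
    [M'.IsMaximal] : M' = M ∨ M' = M.comap (lam : R →+* R) := by
  have hsub : (M' : Set R) ⊆ (M : Set R) ∪ (M.comap (lam : R →+* R) : Set R) := fun x hx => by
    obtain ⟨t, n, -, hn⟩ := exists_trace_norm hlam hS x
    have h1 : algebraMap S R n ∈ M' := hn ▸ Ideal.mul_mem_right _ _ hx
    rw [← Ideal.mem_comap, comap_maximal hlam hS M', ← comap_maximal hlam hS M, Ideal.mem_comap, hn] at h1
    exact (Ideal.IsPrime.mem_or_mem inferInstance h1).imp id id
  rcases Ideal.subset_union.mp hsub with h | h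
  · exact .inl (Ideal.IsMaximal.eq_of_le inferInstance (Ideal.IsMaximal.ne_top inferInstance) h)
  · refine .inr (Ideal.IsMaximal.eq_of_le inferInstance ?_ h)
    intro htop
    have h1 : (1 : R) ∈ M.comap (lam : R →+* R) := htop ▸ trivial
    rw [Ideal.mem_comap, map_one] at h1
    exact Ideal.IsMaximal.ne_top inferInstance ((Ideal.eq_top_iff_one M).mpr h1)

theorem isUnit_sub_of_notMem (hlam : Function.Involutive lam) (hS : IsFixedRing S R lam) {r : R}
    (M : Ideal R) [M.IsMaximal] (hr : r - lam r ∉ M) : IsUnit (r - lam r) := by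
  by_contra hu
  obtain ⟨M', hM', hmem⟩ := exists_max_ideal_of_mem_nonunits (mem_nonunits_iff.mpr hu)
  rcases eq_or_eq_comap hlam hS M M' with rfl | rfl
  · exact hr hmem
  · rw [Ideal.mem_comap] at hmem
    refine hr ?_
    have : r - lam r = -((lam : R →+* R) (r - lam r)) := by
      rw [RingHom.coe_coe, map_sub, hlam r]; ring
    rw [this]; exact M.neg_mem hmem

theorem isLocalRing_of_trivial (hlam : Function.Involutive lam) (hS : IsFixedRing S R lam)
    (h : ∀ r : R, lam r - r ∈ Ring.jacobson R) : IsLocalRing R := by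
  have : Nontrivial R := hS.1.nontrivial
  obtain ⟨M, hM⟩ := Ideal.exists_maximal R
  refine IsLocalRing.of_unique_max_ideal ⟨M, hM, fun M' hM' => ?_⟩
  rcases eq_or_eq_comap hlam hS M M' with h' | h'
  · exact h'
  · rw [h']
    ext x
    rw [Ideal.mem_comap, RingHom.coe_coe]
    have hx : lam x - x ∈ M := by
      have := h x
      rw [Ring.jacobson_eq_sInf_isMaximal] at this
      exact Submodule.mem_sInf.mp this M hM
    exact ⟨fun h1 => by simpa using M.sub_mem h1 hx, fun h1 => by simpa using M.add_mem hx h1⟩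

attribute [local instance] Ideal.Quotient.field

omit [IsLocalRing S] in
theorem mem_jacobson_iff {x : R} : x ∈ Ring.jacobson R ↔ ∀ M : Ideal R, M.IsMaximal → x ∈ M := by
  rw [Ring.jacobson_eq_sInf_isMaximal, Submodule.mem_sInf]; rfl

theorem not_isQuadEtale_of_trivial (hlam : Function.Involutive lam) (hS : IsFixedRing S R lam)
    (h : ∀ r : R, lam r - r ∈ Ring.jacobson R) : ¬ IsQuadEtale S R := by
  rintro ⟨hfin, hproj, hunr, hrank⟩
  have hloc := isLocalRing_of_trivial hlam hS h
  set I := (maximalIdeal S).map (algebraMap S R)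
  have hImax : I = maximalIdeal R := by
    have hrad := Algebra.FormallyUnramified.isRadical_map_isMaximal S R (maximalIdeal S)
    have hle : I ≤ maximalIdeal R := Ideal.map_le_iff_le_comap.mpr (comap_maximal hlam hS _).ge
    refine le_antisymm hle ?_
    rw [← (show I.radical = I from hrad.radical), Ideal.radical_eq_sInf]
    refine le_sInf fun P ⟨hP, hPp⟩ => ?_
    have := isIntegral_fixed hlam hS
    have : P.IsPrime := hPp
    have hc : P.comap (algebraMap S R) = maximalIdeal S :=
      le_antisymm (IsLocalRing.le_maximalIdeal (Ideal.IsPrime.ne_top (Ideal.IsPrime.comap (algebraMap S R)))) (Ideal.map_le_iff_le_comap.mp hP)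
    have hcm : (P.comap (algebraMap S R)).IsMaximal := by rw [hc]; infer_instance
    have hPm : P.IsMaximal := Ideal.isMaximal_of_isIntegral_of_isMaximal_comap P hcm
    exact (IsLocalRing.eq_maximalIdeal hPm).ge
  have : Module.Free S R := Module.free_of_flat_of_isLocalRing
  have h2 : Module.finrank (S ⧸ maximalIdeal S) (R ⧸ I) = 2 := by
    rw [IsLocalRing.finrank_quotient_map]
    simpa [Module.rankAtStalk_eq_finrank_of_free] using hrank ⟨maximalIdeal S, inferInstance⟩
  have hunr' : Algebra.FormallyUnramified (S ⧸ maximalIdeal S) (R ⧸ I) :=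
    Algebra.FormallyUnramified.of_restrictScalars S _ _
  have hfin' : Module.Finite (S ⧸ maximalIdeal S) (R ⧸ I) := Module.Finite.of_restrictScalars_finite S _ _
  have : I.IsMaximal := hImax ▸ inferInstance
  let := Ideal.Quotient.field I
  have hsep : Algebra.IsSeparable (S ⧸ maximalIdeal S) (R ⧸ I) := Algebra.FormallyUnramified.isSeparable _ _
  have hsurj : ∀ z : R ⧸ I, z ∈ (algebraMap (S ⧸ maximalIdeal S) (R ⧸ I)).range := by
    intro z
    obtain ⟨r, rfl⟩ := Ideal.Quotient.mk_surjective z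
    obtain ⟨t, n, ht, hn⟩ := exists_trace_norm hlam hS r
    have hz : Ideal.Quotient.mk I (lam r) = Ideal.Quotient.mk I r := by
      rw [Ideal.Quotient.eq, hImax]
      exact mem_jacobson_iff.mp (h r) _ inferInstance
    have ha : algebraMap (S ⧸ maximalIdeal S) (R ⧸ I) (Ideal.Quotient.mk _ t) = Ideal.Quotient.mk I r + Ideal.Quotient.mk I r := by
      change Ideal.Quotient.mk I (algebraMap S R t) = _
      rw [ht, map_add, hz]
    have hb : algebraMap (S ⧸ maximalIdeal S) (R ⧸ I) (Ideal.Quotient.mk _ n) = Ideal.Quotient.mk I r * Ideal.Quotient.mk I r := by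
      change Ideal.Quotient.mk I (algebraMap S R n) = _
      rw [hn, map_mul, hz]
    set z := Ideal.Quotient.mk I r
    set g : Polynomial (S ⧸ maximalIdeal S) := Polynomial.X ^ 2 + (Polynomial.C (-(Ideal.Quotient.mk _ t)) * Polynomial.X + Polynomial.C (Ideal.Quotient.mk _ n)) with hg
    have hgz : Polynomial.aeval z g = 0 := by
      simp only [hg, map_add, map_mul, map_neg, map_pow, Polynomial.aeval_X, Polynomial.aeval_C, ha, hb]; ring
    have hint : IsIntegral (S ⧸ maximalIdeal S) z := IsIntegral.of_finite _ _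
    have hmap : g.map (algebraMap (S ⧸ maximalIdeal S) (R ⧸ I)) = (Polynomial.X - Polynomial.C z) ^ 2 := by
      simp only [hg, Polynomial.map_add, Polynomial.map_mul, Polynomial.map_neg, Polynomial.map_pow, Polynomial.map_X,
        Polynomial.map_C, map_neg, ha, hb, map_add, map_mul]
      ring
    have hdvd : (minpoly (S ⧸ maximalIdeal S) z).map (algebraMap _ (R ⧸ I)) ∣ (Polynomial.X - Polynomial.C z) ^ 2 :=
      hmap ▸ Polynomial.map_dvd _ (minpoly.dvd _ z hgz)
    have hsepz : ((minpoly (S ⧸ maximalIdeal S) z).map (algebraMap _ (R ⧸ I))).Separable :=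
      Polynomial.Separable.map (Algebra.IsSeparable.isSeparable _ z)
    obtain ⟨i, hi, hassoc⟩ := (dvd_prime_pow (Polynomial.prime_X_sub_C z) 2).mp hdvd
    have hi1 : i ≤ 1 := by
      by_contra hc
      obtain rfl : i = 2 := by omega
      have := hsepz.squarefree (Polynomial.X - Polynomial.C z) (by rw [← sq]; exact hassoc.symm.dvd)
      exact Polynomial.not_isUnit_X_sub_C z this
    have hdeg := Polynomial.degree_eq_degree_of_associated hassoc
    rw [Polynomial.degree_map, Polynomial.degree_pow, Polynomial.degree_X_sub_C] at hdeg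
    have h3 := minpoly.natDegree_pos hint
    have h4 : (minpoly (S ⧸ maximalIdeal S) z).natDegree = 1 := by
      have := Polynomial.natDegree_eq_of_degree_eq_some (n := i) (p := minpoly (S ⧸ maximalIdeal S) z) (by rw [hdeg]; simp)
      omega
    exact minpoly.natDegree_eq_one_iff.mp h4
  have h1 : Module.finrank (S ⧸ maximalIdeal S) (R ⧸ I) ≤ 1 :=
    finrank_le_one 1 fun z => by obtain ⟨c, hc⟩ := hsurj z; exact ⟨c, by rw [Algebra.smul_def, mul_one, hc]⟩
  omega

theorem exists_unit_sub (hlam : Function.Involutive lam) (hS : IsFixedRing S R lam) (hq : IsQuadEtale S R) :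
    ∃ r : R, IsUnit (r - lam r) := by
  by_contra hno
  refine not_isQuadEtale_of_trivial hlam hS (fun r => mem_jacobson_iff.mpr fun M hM => ?_) hq
  by_contra hc
  exact hno ⟨r, isUnit_sub_of_notMem hlam hS M fun h => hc (by simpa using M.neg_mem h)⟩

theorem isQuadEtale_of_nontrivial (hlam : Function.Involutive lam) (hS : IsFixedRing S R lam)
    (h : ∃ r : R, lam r - r ∉ Ring.jacobson R) : IsQuadEtale S R := by
  obtain ⟨r, hr⟩ := h
  simp only [mem_jacobson_iff, not_forall] at hr
  obtain ⟨M, hM, hr⟩ := hr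
  exact isQuadEtale_of_unit hlam hS (isUnit_sub_of_notMem hlam hS M fun h => hr (by simpa using M.neg_mem h))

theorem hilbert90 (hlam : Function.Involutive lam) (hS : IsFixedRing S R lam) (hq : IsQuadEtale S R)
    (r : Rˣ) (hr : lam r * r = 1) : ∃ a : Rˣ, (r : R) = (a⁻¹ : Rˣ) * lam a := by
  obtain ⟨d, hd⟩ := exists_unit_sub hlam hS hq
  have : Nontrivial R := hS.1.nontrivial
  obtain ⟨M, hM⟩ := Ideal.exists_maximal R
  set a : R → R := fun x => x + lam (r : R) * lam x
  have hla : ∀ x, lam (a x) = (r : R) * a x := fun x => by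
    simp only [a, map_add, map_mul, hlam x, hlam (r : R)]
    linear_combination -(lam x) * hr
  obtain ⟨x, hx⟩ : ∃ x, a x ∉ M := by
    by_contra hall; push Not at hall
    have h1 := hall 1
    have h2 := hall d
    simp only [a, map_one, mul_one] at h1 h2
    have h3 : d - lam d ∈ M := by
      have := M.sub_mem h2 (M.mul_mem_right (lam d) h1)
      convert this using 1; ring
    exact hM.ne_top (Ideal.eq_top_of_isUnit_mem _ h3 hd)
  have hu : IsUnit (a x) := by
    by_contra hu
    obtain ⟨M', hM', hmem⟩ := exists_max_ideal_of_mem_nonunits (mem_nonunits_iff.mpr hu)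
    rcases eq_or_eq_comap hlam hS M M' with rfl | rfl
    · exact hx hmem
    · rw [Ideal.mem_comap, RingHom.coe_coe, hla] at hmem
      exact hx ((Ideal.unit_mul_mem_iff_mem M r.isUnit).mp hmem)
  refine ⟨hu.unit, ?_⟩
  rw [IsUnit.unit_spec, hla, mul_left_comm, IsUnit.val_inv_mul, mul_one]

theorem jacobson_sq_le (hlam : Function.Involutive lam) (hS : IsFixedRing S R lam) (h2 : IsUnit (2 : S)) :
    (Ring.jacobson R) ^ 2 ≤ (maximalIdeal S).map (algebraMap S R) := by
  have : Nontrivial R := hS.1.nontrivial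
  obtain ⟨M, hM⟩ := Ideal.exists_maximal R
  set J := Ring.jacobson R with hJ
  have hJlam : ∀ x ∈ J, lam x ∈ J := fun x hx => by
    rw [hJ, mem_jacobson_iff] at hx ⊢
    intro P hP
    have : (P.comap (lam : R →+* R)).IsMaximal := Ideal.comap_isMaximal_of_surjective _ lam.surjective
    exact hx _ this
  have hfix : ∀ s : S, algebraMap S R s ∈ J → s ∈ maximalIdeal S := fun s hs => by
    rw [← comap_maximal hlam hS M, Ideal.mem_comap]
    exact mem_jacobson_iff.mp hs M hM
  obtain ⟨h, hh⟩ := h2.exists_left_inv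
  have hh' : algebraMap S R h * 2 = 1 := by rw [← map_ofNat (algebraMap S R) 2, ← map_mul, hh, map_one]
  have hdec : ∀ x ∈ J, ∃ (s : S) (y : R), x = algebraMap S R s + y ∧ algebraMap S R s ∈ J ∧ y ∈ J ∧ lam y = -y := fun x hx => by
    obtain ⟨s, hs⟩ := (hS.2 (algebraMap S R h * (x + lam x))).mp (by rw [map_mul, lam_algebraMap hS, map_add, hlam x, add_comm (lam x)])
    refine ⟨s, algebraMap S R h * (x - lam x), ?_, hs ▸ J.mul_mem_left _ (J.add_mem hx (hJlam x hx)),
      J.mul_mem_left _ (J.sub_mem hx (hJlam x hx)), ?_⟩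
    · rw [hs]; linear_combination -x * hh'
    · rw [map_mul, lam_algebraMap hS, map_sub, hlam x]; ring
  rw [pow_two, Ideal.mul_le]
  intro x hx x' hx'
  obtain ⟨s, y, rfl, hsJ, hyJ, hy⟩ := hdec x hx
  obtain ⟨s', y', rfl, hsJ', hyJ', hy'⟩ := hdec x' hx'
  obtain ⟨n, hn⟩ := (hS.2 (y * y')).mp (by rw [map_mul, hy, hy']; ring)
  have e : (algebraMap S R s + y) * (algebraMap S R s' + y') =
      algebraMap S R s * (algebraMap S R s' + y') + algebraMap S R s' * y + algebraMap S R n := by rw [hn]; ring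
  rw [e]
  exact add_mem (add_mem (Ideal.mul_mem_right _ _ (Ideal.mem_map_of_mem _ (hfix s hsJ)))
    (Ideal.mul_mem_right _ _ (Ideal.mem_map_of_mem _ (hfix s' hsJ'))))
    (Ideal.mem_map_of_mem _ (hfix n (hn ▸ J.mul_mem_right _ hyJ)))

/-- The Jacobson radical of a quadratic etale algebra over a local ring. -/
theorem jacobson_eq (hq : IsQuadEtale S R) :
    Ring.jacobson R = (maximalIdeal S).map (algebraMap S R) := by
  obtain ⟨hfin, hproj, hunr, -⟩ := hq
  set I := (maximalIdeal S).map (algebraMap S R)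
  refine le_antisymm (fun x hx => ?_) ?_
  · have hrad := Algebra.FormallyUnramified.isRadical_map_isMaximal S R (maximalIdeal S)
    rw [← (show I.radical = I from hrad.radical), Ideal.radical_eq_sInf]
    refine Submodule.mem_sInf.mpr fun (P : Ideal R) ⟨hP, hPp⟩ => ?_
    have : P.IsPrime := hPp
    have hc : P.comap (algebraMap S R) = maximalIdeal S :=
      le_antisymm (IsLocalRing.le_maximalIdeal (Ideal.IsPrime.ne_top (Ideal.IsPrime.comap (algebraMap S R)))) (Ideal.map_le_iff_le_comap.mp hP)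
    have hcm : (P.comap (algebraMap S R)).IsMaximal := by rw [hc]; infer_instance
    exact mem_jacobson_iff.mp hx P (Ideal.isMaximal_of_isIntegral_of_isMaximal_comap P hcm)
  · intro x hx
    refine mem_jacobson_iff.mpr fun M hM => ?_
    have hc : M.comap (algebraMap S R) = maximalIdeal S :=
      IsLocalRing.eq_maximalIdeal (Ideal.isMaximal_comap_of_isIntegral_of_isMaximal M)
    exact Ideal.map_le_iff_le_comap.mpr hc.ge hx

/-- The closed fibre of a quadratic etale algebra over a local ring. -/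
theorem fibre_cases (hq : IsQuadEtale S R) :
    (IsField (R ⧸ (maximalIdeal S).map (algebraMap S R)) ∧
      Module.finrank (S ⧸ maximalIdeal S) (R ⧸ (maximalIdeal S).map (algebraMap S R)) = 2 ∧
      Algebra.IsSeparable (S ⧸ maximalIdeal S) (R ⧸ (maximalIdeal S).map (algebraMap S R))) ∨
    Nonempty ((R ⧸ (maximalIdeal S).map (algebraMap S R)) ≃ₐ[S ⧸ maximalIdeal S]
      ((S ⧸ maximalIdeal S) × (S ⧸ maximalIdeal S))) := by
  obtain ⟨hfin, hproj, hunr, hrank⟩ := hq
  set I := (maximalIdeal S).map (algebraMap S R)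
  have : Module.Free S R := Module.free_of_flat_of_isLocalRing
  have h2 : Module.finrank (S ⧸ maximalIdeal S) (R ⧸ I) = 2 := by
    rw [IsLocalRing.finrank_quotient_map]
    simpa [Module.rankAtStalk_eq_finrank_of_free] using hrank ⟨maximalIdeal S, inferInstance⟩
  have hfin' : Module.Finite (S ⧸ maximalIdeal S) (R ⧸ I) := Module.Finite.of_restrictScalars_finite S _ _
  have hunr' : Algebra.FormallyUnramified (S ⧸ maximalIdeal S) (R ⧸ I) :=
    Algebra.FormallyUnramified.of_restrictScalars S _ _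
  by_cases hf : IsField (R ⧸ I)
  · let := hf.toField
    exact .inl ⟨hf, h2, Algebra.FormallyUnramified.isSeparable _ _⟩
  refine .inr ?_
  have : Nontrivial (R ⧸ I) := Module.nontrivial_of_finrank_pos (R := S ⧸ maximalIdeal S) (by omega)
  have hred : IsReduced (R ⧸ I) := Algebra.FormallyUnramified.isReduced_of_field (S ⧸ maximalIdeal S) _
  have hart : IsArtinianRing (R ⧸ I) := IsArtinianRing.of_finite (S ⧸ maximalIdeal S) _
  obtain ⟨P, hP⟩ := Ideal.exists_maximal (R ⧸ I)
  obtain ⟨Q, hQ, hne⟩ : ∃ Q : Ideal (R ⧸ I), Q.IsMaximal ∧ Q ≠ P := by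
    by_contra hall; push Not at hall
    refine hf ⟨exists_pair_ne _, mul_comm, fun {x} hx => ?_⟩
    have hu : IsUnit x := by
      by_contra hu
      obtain ⟨Q, hQ, hmem⟩ := exists_max_ideal_of_mem_nonunits (mem_nonunits_iff.mpr hu)
      rw [hall Q hQ] at hmem
      refine hx ?_
      have hn : x ∈ nilradical (R ⧸ I) := by
        rw [nilradical_eq_sInf]
        refine Submodule.mem_sInf.mpr fun (Q : Ideal (R ⧸ I)) hQ => ?_
        have : Ideal.IsPrime Q := hQ
        rwa [hall Q (IsArtinianRing.isMaximal_of_isPrime Q)]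
      exact IsNilpotent.eq_zero (mem_nilradical.mp hn)
    exact ⟨_, hu.mul_val_inv⟩
  let f : (R ⧸ I) →ₐ[S ⧸ maximalIdeal S] ((R ⧸ I) ⧸ P) × ((R ⧸ I) ⧸ Q) :=
    (Ideal.Quotient.mkₐ _ P).prod (Ideal.Quotient.mkₐ _ Q)
  have hcop : IsCoprime P Q := Ideal.isCoprime_iff_sup_eq.mpr (Ideal.IsMaximal.coprime_of_ne hP hQ hne.symm)
  have hsurj : Function.Surjective f := by
    rintro ⟨a, b⟩
    obtain ⟨a, rfl⟩ := Ideal.Quotient.mk_surjective a
    obtain ⟨b, rfl⟩ := Ideal.Quotient.mk_surjective b
    obtain ⟨p, hp, q, hq, hpq⟩ := Ideal.isCoprime_iff_exists.mp hcop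
    refine ⟨a * q + b * p, Prod.ext ?_ ?_⟩
    · refine Ideal.Quotient.eq.mpr ?_
      rw [show a * q + b * p - a = p * (b - a) by linear_combination a * hpq]
      exact P.mul_mem_right _ hp
    · refine Ideal.Quotient.eq.mpr ?_
      rw [show a * q + b * p - b = q * (a - b) by linear_combination b * hpq]
      exact Q.mul_mem_right _ hq
  have := Ideal.Quotient.nontrivial_iff.mpr hP.ne_top
  have := Ideal.Quotient.nontrivial_iff.mpr hQ.ne_top
  have hsum : Module.finrank (S ⧸ maximalIdeal S) ((R ⧸ I) ⧸ P) + Module.finrank (S ⧸ maximalIdeal S) ((R ⧸ I) ⧸ Q) ≤ 2 := by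
    rw [← Module.finrank_prod, ← h2]
    exact LinearMap.finrank_le_finrank_of_surjective (f := f.toLinearMap) hsurj
  have hp1 : 0 < Module.finrank (S ⧸ maximalIdeal S) ((R ⧸ I) ⧸ P) := Module.finrank_pos
  have hq1 : 0 < Module.finrank (S ⧸ maximalIdeal S) ((R ⧸ I) ⧸ Q) := Module.finrank_pos
  have hbij : Function.Bijective f := ⟨(LinearMap.injective_iff_surjective_of_finrank_eq_finrank
    (f := f.toLinearMap) (by rw [Module.finrank_prod]; omega)).mpr hsurj, hsurj⟩
  have hone : ∀ P' : Ideal (R ⧸ I), P' ≠ ⊤ → Module.finrank (S ⧸ maximalIdeal S) ((R ⧸ I) ⧸ P') = 1 →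
      Nonempty (((R ⧸ I) ⧸ P') ≃ₐ[S ⧸ maximalIdeal S] (S ⧸ maximalIdeal S)) := fun P' hP' h1 => by
    have := Ideal.Quotient.nontrivial_iff.mpr hP'
    refine ⟨(AlgEquiv.ofBijective (Algebra.ofId (S ⧸ maximalIdeal S) _) ⟨(Algebra.ofId (S ⧸ maximalIdeal S) ((R ⧸ I) ⧸ P')).toRingHom.injective, fun y => ?_⟩).symm⟩
    obtain ⟨c, hc⟩ := exists_smul_eq_of_finrank_eq_one h1 (one_ne_zero (α := (R ⧸ I) ⧸ P')) y
    exact ⟨c, by rw [← hc, Algebra.ofId_apply, Algebra.algebraMap_eq_smul_one]⟩
  obtain ⟨eP⟩ := hone P hP.ne_top (by omega)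
  obtain ⟨eQ⟩ := hone Q hQ.ne_top (by omega)
  exact ⟨(AlgEquiv.ofBijective f hbij).trans (AlgEquiv.prodCongr eP eQ)⟩

end Groth.Agent.RInvLib
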