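import Groth.Agent.RInvLib.Basic

/-! Base change of fixed rings and the branch locus. -/

universe u v w

namespace Groth.Agent.RInvLib

open RInv TensorProduct IsLocalRing

variable {S : Type u} {R : Type v} [CommRing S] [CommRing R] [Algebra S R] {lam : R ≃+* R}

/-- The involution as an algebra automorphism. -/
def lamAlg (hS : IsFixedRing S R lam) : R ≃ₐ[S] R :=
  AlgEquiv.ofRingEquiv (f := lam) (lam_algebraMap hS)

theorem lamAlg_apply (hS : IsFixedRing S R lam) (r : R) : lamAlg hS r = lam r := rfl

theorem isFixedRing_baseChange (S' : Type w) [CommRing S'] [Algebra S S'] (lam : R ≃ₐ[S] R)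
    (hlam : Function.Involutive lam) (hS : IsFixedRing S R lam.toRingEquiv)
    (h : Module.Flat S S' ∨ IsUnit (2 : S)) :
    IsFixedRing S' (S' ⊗[S] R)
      (Algebra.TensorProduct.congr (AlgEquiv.refl : S' ≃ₐ[S'] S') lam).toRingEquiv := by
  set d : R →ₗ[S] R := lam.toLinearMap - LinearMap.id with hd
  have hdi : ∀ z : S' ⊗[S] R,
      (Algebra.TensorProduct.congr (AlgEquiv.refl : S' ≃ₐ[S'] S') lam) z = z + d.lTensor S' z := by
    intro z
    induction z using TensorProduct.induction_on with
    | zero => simp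
    | add a b ha hb => rw [map_add, map_add, ha, hb]; abel
    | tmul a b => simp [hd, TensorProduct.tmul_sub]
  have hmap : ∀ s' : S', algebraMap S' (S' ⊗[S] R) s' =
      (Algebra.linearMap S R).lTensor S' ((TensorProduct.rid S S').symm s') := by
    intro s'
    simp [Algebra.TensorProduct.algebraMap_apply]
  have hex : Function.Exact (Algebra.linearMap S R) d := by
    intro r
    simp only [hd, LinearMap.sub_apply, AlgEquiv.toLinearMap_apply, LinearMap.id_apply, sub_eq_zero,
      Set.mem_range, Algebra.linearMap_apply]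
    exact (hS.2 r)
  have hinj : Function.Injective (Algebra.linearMap S R) := hS.1
  have key : Function.Injective ((Algebra.linearMap S R).lTensor S') ∧
      ∀ z, d.lTensor S' z = 0 → z ∈ Set.range ((Algebra.linearMap S R).lTensor S') := by
    rcases h with hf | h2
    · exact ⟨Module.Flat.lTensor_preserves_injective_linearMap _ hinj,
        fun z hz => (Module.Flat.lTensor_exact S' hex z).1 hz⟩
    · obtain ⟨c, hc⟩ := h2.exists_left_inv
      have hc' : algebraMap S R c * 2 = 1 := by
        rw [← map_ofNat (algebraMap S R) 2, ← map_mul, hc, map_one]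
      have hπ : ∀ x : R, ∃ s : S, algebraMap S R s = algebraMap S R c * (x + lam x) := fun x =>
        (hS.2 _).1 (by
          show lam (algebraMap S R c * (x + lam x)) = _
          rw [map_mul, map_add, AlgEquiv.commutes, hlam x]; ring)
      choose π hπ using hπ
      let π' : R →ₗ[S] S :=
        { toFun := π
          map_add' := fun x y => hS.1 (by rw [map_add, hπ, hπ, hπ, map_add]; ring)
          map_smul' := fun s x => hS.1 (by
            rw [RingHom.id_apply, smul_eq_mul, map_mul, hπ, hπ, map_smul, Algebra.smul_def,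
              Algebra.smul_def]
            ring) }
      have h1 : π'.comp (Algebra.linearMap S R) = LinearMap.id := by
        refine LinearMap.ext fun s => hS.1 ?_
        show algebraMap S R (π (algebraMap S R s)) = algebraMap S R s
        rw [hπ, AlgEquiv.commutes]
        linear_combination (algebraMap S R s) * hc'
      have h2' : (Algebra.linearMap S R).comp π' = LinearMap.id + c • d := by
        refine LinearMap.ext fun x => ?_
        show algebraMap S R (π x) = x + c • (lam x - x)
        rw [hπ, Algebra.smul_def]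
        linear_combination x * hc'
      refine ⟨fun x y hxy => ?_, fun z hz => ⟨π'.lTensor S' z, ?_⟩⟩
      · have := congrArg (π'.lTensor S') hxy
        rwa [← LinearMap.lTensor_comp_apply, ← LinearMap.lTensor_comp_apply, h1,
          LinearMap.lTensor_id_apply, LinearMap.lTensor_id_apply] at this
      · rw [← LinearMap.lTensor_comp_apply, h2', LinearMap.lTensor_add, LinearMap.lTensor_smul,
          LinearMap.add_apply, LinearMap.smul_apply, hz, smul_zero, add_zero,
          LinearMap.lTensor_id_apply]
  refine ⟨fun a b hab => ?_, fun z => ?_⟩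
  · rw [hmap, hmap] at hab
    exact (TensorProduct.rid S S').symm.injective (key.1 hab)
  · change (Algebra.TensorProduct.congr (AlgEquiv.refl : S' ≃ₐ[S'] S') lam) z = z ↔ _
    rw [hdi, add_eq_left]
    constructor
    · intro hz
      obtain ⟨w, rfl⟩ := key.2 z hz
      exact ⟨TensorProduct.rid S S' w, by rw [hmap, LinearEquiv.symm_apply_apply]⟩
    · rintro ⟨s', rfl⟩
      rw [hmap, ← LinearMap.lTensor_comp_apply, hex.linearMap_comp_eq_zero, LinearMap.lTensor_zero,
        LinearMap.zero_apply]

/-- Involution of a base change. -/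
noncomputable def lamBC (hS : IsFixedRing S R lam) (S' : Type w) [CommRing S'] [Algebra S S'] :
    (S' ⊗[S] R) ≃+* (S' ⊗[S] R) :=
  (Algebra.TensorProduct.congr (AlgEquiv.refl : S' ≃ₐ[S'] S') (lamAlg hS)).toRingEquiv

theorem lamBC_tmul (hS : IsFixedRing S R lam) (S' : Type w) [CommRing S'] [Algebra S S'] (a : S')
    (r : R) : lamBC hS S' (a ⊗ₜ r) = a ⊗ₜ lam r := rfl

theorem lamBC_involutive (hlam : Function.Involutive lam) (hS : IsFixedRing S R lam) (S' : Type w)
    [CommRing S'] [Algebra S S'] : Function.Involutive (lamBC hS S') := by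
  intro z
  induction z using TensorProduct.induction_on with
  | zero => simp
  | add a b ha hb => rw [map_add, map_add, ha, hb]
  | tmul a b => rw [lamBC_tmul, lamBC_tmul, hlam b]

theorem isFixedRing_lamBC (hlam : Function.Involutive lam) (hS : IsFixedRing S R lam) (S' : Type w)
    [CommRing S'] [Algebra S S'] [Module.Flat S S'] :
    IsFixedRing S' (S' ⊗[S] R) (lamBC hS S') :=
  isFixedRing_baseChange S' (lamAlg hS) hlam hS (.inl inferInstance)

theorem includeRight_sub (hS : IsFixedRing S R lam) (S' : Type w) [CommRing S'] [Algebra S S']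
    (r : R) :
    (Algebra.TensorProduct.includeRight (R := S) (A := S') r) -
        lamBC hS S' (Algebra.TensorProduct.includeRight (R := S) (A := S') r) =
      Algebra.TensorProduct.includeRight (R := S) (A := S') (r - lam r) := by
  rw [Algebra.TensorProduct.includeRight_apply, lamBC_tmul, ← TensorProduct.tmul_sub,
    Algebra.TensorProduct.includeRight_apply]

theorem exists_discr (hlam : Function.Involutive lam) (hS : IsFixedRing S R lam) (r : R) :
    ∃ d : S, algebraMap S R d = (r - lam r) * (r - lam r) :=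
  (hS.2 _).1 (by rw [map_mul, map_sub, hlam r]; ring)

theorem isQuadEtale_baseChange_of_discr (hlam : Function.Involutive lam) (hS : IsFixedRing S R lam)
    (S' : Type w) [CommRing S'] [Algebra S S'] [Module.Flat S S'] {r : R} {d : S}
    (hd : algebraMap S R d = (r - lam r) * (r - lam r)) (hu : IsUnit (algebraMap S S' d)) :
    IsQuadEtale S' (S' ⊗[S] R) := by
  refine isQuadEtale_of_unit (lamBC_involutive hlam hS S') (isFixedRing_lamBC hlam hS S')
    (r := Algebra.TensorProduct.includeRight (R := S) (A := S') r) ?_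
  rw [includeRight_sub]
  refine isUnit_of_mul_isUnit_left
    (y := Algebra.TensorProduct.includeRight (R := S) (A := S') (r - lam r)) ?_
  rw [← map_mul, ← hd, AlgHom.commutes, IsScalarTower.algebraMap_apply S S' (S' ⊗[S] R)]
  exact hu.map _

/-- The branch criterion. -/
theorem isQuadEtale_atPrime_iff (hlam : Function.Involutive lam) (hS : IsFixedRing S R lam)
    (p : Ideal S) [p.IsPrime] :
    IsQuadEtale (Localization.AtPrime p) (Localization.AtPrime p ⊗[S] R) ↔
      ∃ (r : R) (d : S), algebraMap S R d = (r - lam r) * (r - lam r) ∧ d ∉ p := by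
  haveI : Module.Flat S (Localization.AtPrime p) := IsLocalization.flat _ p.primeCompl
  constructor
  · intro hq
    set L := Localization.AtPrime p
    have hlam' := lamBC_involutive hlam hS L
    have hS' := isFixedRing_lamBC hlam hS L
    obtain ⟨x, hx⟩ := exists_unit_sub hlam' hS' hq
    obtain ⟨c, r, rfl⟩ : ∃ (c : L) (r : R), x = c ⊗ₜ[S] r := by
      clear hx
      induction x using TensorProduct.induction_on with
      | zero => exact ⟨0, 0, by simp⟩
      | tmul c r => exact ⟨c, r, rfl⟩
      | add a b ha hb =>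
        obtain ⟨c₁, r₁, rfl⟩ := ha
        obtain ⟨c₂, r₂, rfl⟩ := hb
        obtain ⟨a₁, s₁, rfl⟩ := IsLocalization.exists_mk'_eq p.primeCompl c₁
        obtain ⟨a₂, s₂, rfl⟩ := IsLocalization.exists_mk'_eq p.primeCompl c₂
        have e1 : IsLocalization.mk' L a₁ s₁ = (a₁ * (s₂ : S)) • IsLocalization.mk' L 1 (s₁ * s₂) := by
          rw [IsLocalization.smul_mk', mul_one, IsLocalization.mk'_cancel]
        have e2 : IsLocalization.mk' L a₂ s₂ = (a₂ * (s₁ : S)) • IsLocalization.mk' L 1 (s₁ * s₂) := by
          rw [mul_comm s₁ s₂, IsLocalization.smul_mk', mul_one, IsLocalization.mk'_cancel]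
        refine ⟨IsLocalization.mk' L 1 (s₁ * s₂), (a₁ * (s₂ : S)) • r₁ + (a₂ * (s₁ : S)) • r₂, ?_⟩
        rw [TensorProduct.tmul_add, ← TensorProduct.smul_tmul, ← TensorProduct.smul_tmul, ← e1, ← e2]
    obtain ⟨d, hd⟩ := exists_discr hlam hS r
    refine ⟨r, d, hd, fun hdp => ?_⟩
    rw [lamBC_tmul, ← TensorProduct.tmul_sub] at hx
    have hu : IsUnit ((algebraMap L (L ⊗[S] R)) (c * c * algebraMap S L d)) := by
      have h1 := hx.mul hx
      rw [Algebra.TensorProduct.tmul_mul_tmul, ← hd, Algebra.algebraMap_eq_smul_one d,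
        ← TensorProduct.smul_tmul, Algebra.smul_def, mul_comm (algebraMap S L d)] at h1
      rwa [Algebra.TensorProduct.algebraMap_apply, Algebra.algebraMap_self, RingHom.id_apply]
    haveI : Nontrivial (L ⊗[S] R) := hS'.1.nontrivial
    obtain ⟨M, hM⟩ := Ideal.exists_maximal (L ⊗[S] R)
    have hmem : c * c * algebraMap S L d ∈ maximalIdeal L :=
      Ideal.mul_mem_left _ _ (by
        rw [IsLocalization.AtPrime.to_map_mem_maximal_iff L p]; exact hdp)
    rw [← comap_maximal hlam' hS' M, Ideal.mem_comap] at hmem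
    exact hM.ne_top (Ideal.eq_top_of_isUnit_mem _ hmem hu)
  · rintro ⟨r, d, hd, hdp⟩
    exact isQuadEtale_baseChange_of_discr hlam hS _ hd
      (IsLocalization.map_units (Localization.AtPrime p) (⟨d, hdp⟩ : p.primeCompl))

theorem eq_or_eq_comap_of_comap_eq (hlam : Function.Involutive lam) (hS : IsFixedRing S R lam)
    (P Q : Ideal R) [P.IsPrime] [Q.IsPrime]
    (h : P.comap (algebraMap S R) = Q.comap (algebraMap S R)) :
    Q = P ∨ Q = P.comap (lam : R →+* R) := by
  have := isIntegral_fixed hlam hS
  have hsub : (Q : Set R) ⊆ (P : Set R) ∪ (P.comap (lam : R →+* R) : Set R) := fun x hx => by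
    obtain ⟨t, n, -, hn⟩ := exists_trace_norm hlam hS x
    have h1 : algebraMap S R n ∈ Q := hn ▸ Ideal.mul_mem_right _ _ hx
    rw [← Ideal.mem_comap, ← h, Ideal.mem_comap, hn] at h1
    exact (Ideal.IsPrime.mem_or_mem inferInstance h1).imp id id
  have hinc : ∀ P' : Ideal R, P'.comap (algebraMap S R) = Q.comap (algebraMap S R) → Q ≤ P' → Q = P' := by
    intro P' hP' hle
    refine le_antisymm hle fun x hx => ?_
    by_contra hxQ
    obtain ⟨p, hpm, hpr⟩ := (Algebra.IsIntegral.isIntegral (R := S) x)
    have := Ideal.comap_lt_comap_of_integral_mem_sdiff (R := S) hle ⟨hx, hxQ⟩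
      (Algebra.IsIntegral.isIntegral x)
    exact this.ne hP'.symm
  rcases Ideal.subset_union.mp hsub with h' | h'
  · exact .inl (hinc P h h')
  · refine .inr (hinc _ ?_ h')
    rw [← h]
    ext s
    simp [Ideal.mem_comap, lam_algebraMap hS s]

theorem branch_iff (hlam : Function.Involutive lam) (hS : IsFixedRing S R lam)
    (p : Ideal S) [p.IsPrime] (q : Ideal R) [q.IsPrime] (hq : q.comap (algebraMap S R) = p) :
    ¬ IsQuadEtale (Localization.AtPrime p) (Localization.AtPrime p ⊗[S] R) ↔
      ∀ r : R, lam r - r ∈ q := by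
  rw [isQuadEtale_atPrime_iff hlam hS p]
  constructor
  · intro h r
    obtain ⟨d, hd⟩ := exists_discr hlam hS r
    have hdp : d ∈ p := not_not.1 fun hdp => h ⟨r, d, hd, hdp⟩
    rw [← hq, Ideal.mem_comap, hd] at hdp
    have := ((Ideal.IsPrime.mem_or_mem inferInstance hdp).elim id id)
    simpa using q.neg_mem this
  · rintro h ⟨r, d, hd, hdp⟩
    refine hdp ?_
    rw [← hq, Ideal.mem_comap, hd]
    exact q.mul_mem_left _ (by simpa using q.neg_mem (h r))

theorem exists_prime_over (hlam : Function.Involutive lam) (hS : IsFixedRing S R lam)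
    (p : Ideal S) [p.IsPrime] : ∃ q : Ideal R, q.IsPrime ∧ q.comap (algebraMap S R) = p := by
  have := isIntegral_fixed hlam hS
  obtain ⟨q, -, hq, hqp⟩ := Ideal.exists_ideal_over_prime_of_isIntegral p (⊥ : Ideal R)
    (by rw [← RingHom.ker_eq_comap_bot, (RingHom.injective_iff_ker_eq_bot _).1 hS.1]; exact bot_le)
  exact ⟨q, hq, hqp⟩

theorem unique_over_branch (hlam : Function.Involutive lam) (hS : IsFixedRing S R lam)
    (q q' : Ideal R) [q.IsPrime] [q'.IsPrime] (h : ∀ r : R, lam r - r ∈ q)
    (hqq : q'.comap (algebraMap S R) = q.comap (algebraMap S R)) : q' = q := by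
  rcases eq_or_eq_comap_of_comap_eq hlam hS q q' hqq.symm with h' | h'
  · exact h'
  · rw [h']
    ext x
    rw [Ideal.mem_comap, RingHom.coe_coe]
    exact ⟨fun h1 => by simpa using q.sub_mem h1 (h x), fun h1 => by simpa using q.add_mem (h x) h1⟩

theorem branch_of_le (hlam : Function.Involutive lam) (hS : IsFixedRing S R lam)
    (W : Set (PrimeSpectrum S))
    (hW : W = {p : PrimeSpectrum S | ¬ IsQuadEtale (Localization.AtPrime p.asIdeal) (Localization.AtPrime p.asIdeal ⊗[S] R)})
    (p : Ideal S) [p.IsPrime] (hp : PrimeSpectrum.vanishingIdeal W ≤ p) :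
    ¬ IsQuadEtale (Localization.AtPrime p) (Localization.AtPrime p ⊗[S] R) := by
  rw [isQuadEtale_atPrime_iff hlam hS p]
  rintro ⟨r, d, hd, hdp⟩
  refine hdp (hp ?_)
  rw [PrimeSpectrum.mem_vanishingIdeal]
  intro p' hp'
  rw [hW, Set.mem_ofPred_eq, isQuadEtale_atPrime_iff hlam hS p'.asIdeal] at hp'
  exact not_not.1 fun hdp' => hp' ⟨r, d, hd, hdp'⟩

theorem diff_mem_of_le (hlam : Function.Involutive lam) (hS : IsFixedRing S R lam)
    (W : Set (PrimeSpectrum S))
    (hW : W = {p : PrimeSpectrum S | ¬ IsQuadEtale (Localization.AtPrime p.asIdeal) (Localization.AtPrime p.asIdeal ⊗[S] R)})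
    (P : Ideal R) [P.IsPrime] (hP : PrimeSpectrum.vanishingIdeal W ≤ P.comap (algebraMap S R))
    (r : R) : lam r - r ∈ P :=
  (branch_iff hlam hS _ P rfl).1 (branch_of_le hlam hS W hW _ hP) r

end Groth.Agent.RInvLib
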