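import Groth.Agent.RInvLib.Basic

/-! Congruence of hermitian matrices. -/

universe u v

namespace Groth.Agent.RInvLib

open RInv Matrix

variable {A : Type v} [CommRing A]

section General

variable {lam : A ≃+* A} {ε : A} {ι κ : Type*}

/-- Conjugate transpose. -/
def ct (lam : A ≃+* A) (v : Matrix ι κ A) : Matrix κ ι A := (v.map lam).transpose

theorem ct_apply (v : Matrix ι κ A) (i : κ) (j : ι) : ct lam v i j = lam (v j i) := rfl

theorem ct_mul {μ : Type*} [Fintype κ] (v : Matrix ι κ A) (w : Matrix κ μ A) :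
    ct lam (v * w) = ct lam w * ct lam v := by
  rw [ct, ct, ct, Matrix.map_mul, Matrix.transpose_mul]

theorem ct_ct (hlam : Function.Involutive lam) (v : Matrix ι κ A) : ct lam (ct lam v) = v := by
  ext i j
  rw [ct_apply, ct_apply, hlam]

theorem ct_zero : ct lam (0 : Matrix ι κ A) = 0 := by ext i j; simp [ct_apply]

theorem ct_neg (v : Matrix ι κ A) : ct lam (-v) = -ct lam v := by ext i j; simp [ct_apply]

theorem ct_one [DecidableEq ι] : ct lam (1 : Matrix ι ι A) = 1 := by
  ext i j; simp [ct_apply, Matrix.one_apply, eq_comm, apply_ite lam]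

theorem ct_submatrix {ι' κ' : Type*} (v : Matrix ι κ A) (e : ι' → ι) (f : κ' → κ) :
    ct lam (v.submatrix e f) = (ct lam v).submatrix f e := rfl

theorem ct_fromBlocks {ι' κ' : Type*} (P : Matrix ι κ A) (Q : Matrix ι κ' A) (Q' : Matrix ι' κ A)
    (R : Matrix ι' κ' A) :
    ct lam (fromBlocks P Q Q' R) =
      fromBlocks (ct lam P) (ct lam Q') (ct lam Q) (ct lam R) := by
  rw [ct, Matrix.fromBlocks_map, Matrix.fromBlocks_transpose]
  rfl

variable [Fintype ι] [DecidableEq ι]

/-- Congruence. -/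
def Cong (lam : A ≃+* A) (h h' : Matrix ι ι A) : Prop :=
  ∃ v : Matrix ι ι A, IsUnit v ∧ ct lam v * h * v = h'

theorem Cong.refl (h : Matrix ι ι A) : Cong lam h h :=
  ⟨1, isUnit_one, by rw [ct_one, one_mul, mul_one]⟩

theorem Cong.trans {h h' h'' : Matrix ι ι A} (a : Cong lam h h') (b : Cong lam h' h'') :
    Cong lam h h'' := by
  obtain ⟨v, hv, e⟩ := a
  obtain ⟨w, hw, e'⟩ := b
  exact ⟨v * w, hv.mul hw, by rw [ct_mul, ← e', ← e]; simp only [mul_assoc]⟩

theorem Cong.submatrix [Fintype κ] [DecidableEq κ] {h h' : Matrix ι ι A} (a : Cong lam h h')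
    (e : κ ≃ ι) : Cong lam (h.submatrix e e) (h'.submatrix e e) := by
  obtain ⟨v, hv, eq⟩ := a
  refine ⟨v.submatrix e e, ?_, ?_⟩
  · rw [Matrix.isUnit_iff_isUnit_det, Matrix.det_submatrix_equiv_self,
      ← Matrix.isUnit_iff_isUnit_det]
    exact hv
  · rw [ct_submatrix, Matrix.submatrix_mul_equiv, Matrix.submatrix_mul_equiv, eq]

theorem cong_perm (h : Matrix ι ι A) (σ : Equiv.Perm ι) : Cong lam h (h.submatrix σ σ) := by
  refine ⟨(1 : Matrix ι ι A).submatrix id σ, ?_, ?_⟩
  · refine IsUnit.of_mul_eq_one ((1 : Matrix ι ι A).submatrix σ id) ?_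
    rw [Matrix.submatrix_mul_equiv (e₂ := σ), one_mul]
    exact Matrix.submatrix_one_equiv (Equiv.refl ι)
  · rw [ct_submatrix, ct_one]
    ext i j
    simp [Matrix.mul_apply, Matrix.one_apply]

theorem Cong.herm (hlam : Function.Involutive lam) {h h' : Matrix ι ι A} (a : Cong lam h h')
    (hh : ε • ct lam h = h) : ε • ct lam h' = h' := by
  obtain ⟨v, hv, rfl⟩ := a
  conv_rhs => rw [← hh]
  rw [ct_mul, ct_mul, ct_ct hlam, Matrix.mul_smul, Matrix.smul_mul, mul_assoc]

theorem Cong.isUnit {h h' : Matrix ι ι A} (a : Cong lam h h') (hh : IsUnit h) : IsUnit h' := by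
  obtain ⟨v, hv, rfl⟩ := a
  refine (IsUnit.mul (IsUnit.mul ?_ hh) hv)
  rw [Matrix.isUnit_iff_isUnit_det] at hv ⊢
  rw [ct, Matrix.det_transpose]
  have : (v.map lam).det = lam v.det := ((lam : A →+* A).map_det v).symm
  rw [this]
  exact hv.map lam

variable [Fintype κ] [DecidableEq κ]

theorem cong_block {P P' : Matrix ι ι A} {S S' : Matrix κ κ A} (a : Cong lam P P')
    (b : Cong lam S S') : Cong lam (fromBlocks P 0 0 S) (fromBlocks P' 0 0 S') := by
  obtain ⟨v, hv, rfl⟩ := a
  obtain ⟨w, hw, rfl⟩ := b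
  refine ⟨fromBlocks v 0 0 w, ?_, ?_⟩
  · rw [Matrix.isUnit_iff_isUnit_det, Matrix.det_fromBlocks_zero₁₂, IsUnit.mul_iff,
      ← Matrix.isUnit_iff_isUnit_det, ← Matrix.isUnit_iff_isUnit_det]
    exact ⟨hv, hw⟩
  · simp only [ct_fromBlocks, ct_zero, Matrix.fromBlocks_multiply, Matrix.mul_zero, Matrix.zero_mul,
      add_zero, zero_add]

theorem isUnit_of_block {P : Matrix ι ι A} {S : Matrix κ κ A} (h : IsUnit (fromBlocks P 0 0 S)) :
    IsUnit P ∧ IsUnit S := by
  rw [Matrix.isUnit_iff_isUnit_det, Matrix.det_fromBlocks_zero₁₂, IsUnit.mul_iff,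
    ← Matrix.isUnit_iff_isUnit_det, ← Matrix.isUnit_iff_isUnit_det] at h
  exact h

theorem herm_of_block {P : Matrix ι ι A} {S : Matrix κ κ A}
    (h : ε • ct lam (fromBlocks P 0 0 S) = fromBlocks P 0 0 S) : ε • ct lam S = S := by
  rw [ct_fromBlocks, Matrix.fromBlocks_smul] at h
  exact (Matrix.fromBlocks_inj.1 h).2.2.2

theorem cong_schur (hlam : Function.Involutive lam) (hε : ε * ε = 1) (hlε : lam ε = ε)
    (P : Matrix ι ι A) (Q : Matrix ι κ A) (Q' : Matrix κ ι A) (R : Matrix κ κ A) (hP : IsUnit P)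
    (hh : ε • ct lam (fromBlocks P Q Q' R) = fromBlocks P Q Q' R) :
    Cong lam (fromBlocks P Q Q' R) (fromBlocks P 0 0 (R - Q' * P⁻¹ * Q)) := by
  rw [ct_fromBlocks, Matrix.fromBlocks_smul] at hh
  obtain ⟨hPP, -, hQ', -⟩ := Matrix.fromBlocks_inj.1 hh
  have hdet := (Matrix.isUnit_iff_isUnit_det P).1 hP
  have hctP : ct lam P = ε • P := by
    conv_rhs => rw [← hPP, smul_smul, hε, one_smul]
  have hctPi : ct lam P⁻¹ = ε • P⁻¹ := by
    have h1 : ct lam P⁻¹ * ct lam P = 1 := by
      rw [← ct_mul, Matrix.mul_nonsing_inv P hdet, ct_one]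
    have h2 : (ε • P) * (ε • P⁻¹) = 1 := by
      rw [Matrix.smul_mul, Matrix.mul_smul, smul_smul, hε, one_smul, Matrix.mul_nonsing_inv P hdet]
    calc ct lam P⁻¹ = ct lam P⁻¹ * ((ε • P) * (ε • P⁻¹)) := by rw [h2, mul_one]
      _ = ε • P⁻¹ := by rw [← mul_assoc, ← hctP, h1, one_mul]
  set X : Matrix ι κ A := -(P⁻¹ * Q) with hX
  have hPX : P * X + Q = 0 := by
    rw [hX, Matrix.mul_neg, Matrix.mul_nonsing_inv_cancel_left _ _ hdet, neg_add_cancel]
  have hctX : ct lam X = -(Q' * P⁻¹) := by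
    rw [hX, ct_neg, ct_mul, hctPi, Matrix.mul_smul, ← Matrix.smul_mul, hQ']
  have hXP : ct lam X * P + Q' = 0 := by
    rw [hctX, Matrix.neg_mul, Matrix.nonsing_inv_mul_cancel_right _ _ hdet, neg_add_cancel]
  refine ⟨fromBlocks 1 X 0 1, ?_, ?_⟩
  · rw [Matrix.isUnit_iff_isUnit_det, Matrix.det_fromBlocks_zero₂₁, Matrix.det_one, Matrix.det_one,
      one_mul]
    exact isUnit_one
  · simp only [ct_fromBlocks, ct_one, ct_zero, Matrix.fromBlocks_multiply, Matrix.one_mul,
      Matrix.mul_one, Matrix.zero_mul, Matrix.mul_zero, add_zero, zero_add, hPX, hXP]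
    rw [hctX, Matrix.neg_mul, neg_add_eq_sub]

theorem cong_transvection (h : Matrix ι ι A) {i j : ι} (hij : i ≠ j) (t : A) :
    ∃ h', Cong lam h h' ∧ h' i i = h i i + t * h i j + lam t * (h j i + t * h j j) := by
  refine ⟨_, ⟨Matrix.transvection j i t, ?_, rfl⟩, ?_⟩
  · rw [Matrix.isUnit_iff_isUnit_det, Matrix.det_transvection_of_ne _ _ hij.symm]
    exact isUnit_one
  · have h1 : ct lam (Matrix.transvection j i t) = Matrix.transvection i j (lam t) := by
      ext a b
      simp only [ct_apply, Matrix.transvection, Matrix.add_apply, map_add, Matrix.one_apply,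
        Matrix.single_apply, apply_ite lam, map_one, map_zero]
      simp [eq_comm, and_comm]
    rw [h1, mul_assoc, Matrix.transvection_mul_apply_same, Matrix.mul_transvection_apply_same,
      Matrix.mul_transvection_apply_same]

/-- An alternating matrix of odd size is singular. -/
theorem det_eq_zero_of_alternating {k : Type*} [CommRing k] (N : Matrix ι ι k)
    (hskew : ∀ i j, N j i = -N i j) (hdiag : ∀ i, N i i = 0) (hodd : Odd (Fintype.card ι)) :
    N.det = 0 := by
  rw [Matrix.det_apply']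
  refine Finset.sum_involution (fun σ _ => σ⁻¹) (fun σ _ => ?_) (fun σ _ hne heq => hne ?_)
    (fun σ _ => Finset.mem_univ _) (fun σ _ => inv_inv σ)
  · have : ∏ i, N (σ⁻¹ i) i = -∏ i, N (σ i) i := by
      rw [← Equiv.prod_comp σ (fun i => N (σ⁻¹ i) i)]
      simp only [Equiv.Perm.inv_def, Equiv.symm_apply_apply]
      rw [show (fun i => N i (σ i)) = fun i => -N (σ i) i from funext fun i => hskew _ _,
        Finset.prod_neg, Finset.card_univ, hodd.neg_one_pow, neg_one_mul]
    rw [this, Equiv.Perm.sign_inv]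
    ring
  · haveI : Fact (Nat.Prime 2) := ⟨Nat.prime_two⟩
    obtain ⟨a, ha⟩ := Equiv.Perm.exists_fixed_point_of_prime (p := 2) (n := 1)
      (by rw [← even_iff_two_dvd, Nat.not_even_iff_odd]; exact hodd)
      (show σ ^ 2 ^ 1 = 1 by rw [pow_one, pow_two]; nth_rewrite 1 [← heq]; exact inv_mul_cancel σ)
    rw [Finset.prod_eq_zero (Finset.mem_univ a) (by rw [ha, hdiag]), mul_zero]

end General

section Local

variable {B : Type u} [CommRing B] [Algebra B A] [IsLocalRing B] {lam : A ≃+* A} {ε : A}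

theorem isUnit_of_notMem (hlam : Function.Involutive lam) (hB : IsFixedRing B A lam) (M : Ideal A)
    [M.IsMaximal] {x : A} (hx : x ∉ M) (hfix : lam x = ε * x) (hε : IsUnit ε) : IsUnit x := by
  by_contra hu
  obtain ⟨M', hM', hmem⟩ := exists_max_ideal_of_mem_nonunits (mem_nonunits_iff.mpr hu)
  rcases eq_or_eq_comap hlam hB M M' with rfl | rfl
  · exact hx hmem
  · rw [Ideal.mem_comap, RingHom.coe_coe, hfix] at hmem
    exact hx ((Ideal.unit_mul_mem_iff_mem M hε).1 hmem)

theorem exists_entry_notMem {ι : Type*} [Fintype ι] [DecidableEq ι] (M : Ideal A) (hM : M ≠ ⊤)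
    {h : Matrix ι ι A} (hh : IsUnit h) (j : ι) : ∃ i, h i j ∉ M := by
  by_contra! hall
  obtain ⟨u, rfl⟩ := hh
  refine hM ((Ideal.eq_top_iff_one M).2 ?_)
  have : ((↑u⁻¹ : Matrix ι ι A) * (↑u : Matrix ι ι A)) j j = 1 := by
    rw [Units.inv_mul, Matrix.one_apply_eq]
  rw [← this, Matrix.mul_apply]
  exact M.sum_mem fun i _ => M.mul_mem_left _ (hall i)

theorem herm_entry {ι : Type*} {h : Matrix ι ι A} (hh : ε • ct lam h = h) (i j : ι) :
    h j i = ε * lam (h i j) := by
  conv_lhs => rw [← hh]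
  rfl

theorem lam_diag {ι : Type*} (hlam : Function.Involutive lam) (hlε : lam ε = ε)
    {h : Matrix ι ι A} (hh : ε • ct lam h = h) (i : ι) : lam (h i i) = ε * h i i := by
  conv_lhs => rw [herm_entry hh i i, map_mul, hlam, hlε]

/-- The hypothesis under which a hermitian matrix can be diagonalised. -/
def GoodForm (lam : A ≃+* A) (ε : A) (M : Ideal A) {n : ℕ} (h : Matrix (Fin n) (Fin n) A) : Prop :=
  (∃ a : A, lam a - a ∉ Ring.jacobson A) ∨ ε + 1 ∉ Ring.jacobson A ∨ Odd n ∨ n = 0 ∨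
    ∃ i, h i i ∉ M

theorem eq_maximal_of_trivial (hlam : Function.Involutive lam) (hB : IsFixedRing B A lam)
    (ht : ∀ a : A, lam a - a ∈ Ring.jacobson A) (M : Ideal A) [M.IsMaximal] {x : A} :
    (x ∈ Ring.jacobson A ↔ x ∈ M) ∧ (x ∉ M → IsUnit x) := by
  have := isLocalRing_of_trivial hlam hB ht
  have hM := IsLocalRing.eq_maximalIdeal (show M.IsMaximal from inferInstance)
  refine ⟨?_, fun hx => ?_⟩
  · rw [IsLocalRing.ringJacobson_eq_maximalIdeal, hM]
  · rw [hM, IsLocalRing.mem_maximalIdeal, mem_nonunits_iff, not_not] at hx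
    exact hx

theorem det_notMem {ι : Type*} [Fintype ι] [DecidableEq ι] (M : Ideal A) [M.IsMaximal]
    {h : Matrix ι ι A} (hh : IsUnit h) (hodd : Odd (Fintype.card ι))
    (hskew : ∀ i j, h j i + h i j ∈ M) : ∃ i, h i i ∉ M := by
  by_contra! hall
  have h1 : ((Ideal.Quotient.mk M).mapMatrix h).det = 0 :=
    det_eq_zero_of_alternating _ (fun i j => by
      rw [eq_neg_iff_add_eq_zero, RingHom.mapMatrix_apply, Matrix.map_apply, Matrix.map_apply,
        ← map_add, Ideal.Quotient.eq_zero_iff_mem]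
      exact hskew i j)
      (fun i => by
        rw [RingHom.mapMatrix_apply, Matrix.map_apply, Ideal.Quotient.eq_zero_iff_mem]
        exact hall i) hodd
  rw [← RingHom.map_det, Ideal.Quotient.eq_zero_iff_mem] at h1
  exact (show M.IsMaximal from inferInstance).ne_top
    (Ideal.eq_top_of_isUnit_mem _ h1 ((Matrix.isUnit_iff_isUnit_det h).1 hh))

theorem skew_mem (M : Ideal A) (hε : ε * ε = 1) (htM : ∀ a : A, lam a - a ∈ M)
    (heM : ε + 1 ∈ M) {ι : Type*} {h : Matrix ι ι A} (hh : ε • ct lam h = h) (i j : ι) :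
    h j i + h i j ∈ M := by
  rw [herm_entry hh i j, show ε * lam (h i j) + h i j =
    ε * (lam (h i j) - h i j) + (ε + 1) * h i j by ring]
  exact add_mem (M.mul_mem_left _ (htM _)) (M.mul_mem_right _ heM)

theorem exists_pivot (hlam : Function.Involutive lam) (hB : IsFixedRing B A lam)
    (hε : ε * ε = 1) (hlε : lam ε = ε) (M : Ideal A) [M.IsMaximal] {n : ℕ}
    {h : Matrix (Fin (n + 1)) (Fin (n + 1)) A} (hh : IsUnit h) (herm : ε • ct lam h = h)
    (hg : GoodForm lam ε M h) : ∃ h', Cong lam h h' ∧ h' 0 0 ∉ M := by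
  suffices H : ∃ (h' : Matrix (Fin (n + 1)) (Fin (n + 1)) A) (i : Fin (n + 1)),
      Cong lam h h' ∧ h' i i ∉ M by
    obtain ⟨h', i, hc, hi⟩ := H
    exact ⟨_, hc.trans (cong_perm h' (Equiv.swap 0 i)), by simpa using hi⟩
  by_cases hd : ∃ i, h i i ∉ M
  · obtain ⟨i, hi⟩ := hd
    exact ⟨h, i, Cong.refl h, hi⟩
  push Not at hd
  obtain ⟨i, hi⟩ := exists_entry_notMem M (show M.IsMaximal from inferInstance).ne_top hh 0
  set j : Fin (n + 1) := 0
  have hij : i ≠ j := fun e => hi (by rw [e]; exact hd j)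
  have key : ∀ t : A, t * h i j + ε * (lam t * lam (h i j)) ∉ M →
      ∃ (h' : Matrix (Fin (n + 1)) (Fin (n + 1)) A) (a : Fin (n + 1)),
        Cong lam h h' ∧ h' a a ∉ M := by
    intro t ht
    obtain ⟨h', hc, he⟩ := cong_transvection (lam := lam) h hij t
    refine ⟨h', i, hc, fun hm => ht ?_⟩
    rw [he, herm_entry herm i j] at hm
    have : h i i + lam t * (t * h j j) ∈ M :=
      add_mem (hd i) (M.mul_mem_left _ (M.mul_mem_left _ (hd j)))
    have := sub_mem hm this
    convert this using 1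
    ring
  by_cases hnt : ∃ a : A, lam a - a ∉ Ring.jacobson A
  · obtain ⟨a, ha⟩ := hnt
    simp only [mem_jacobson_iff, not_forall] at ha
    obtain ⟨M', hM', ha⟩ := ha
    have hu : IsUnit (a - lam a) :=
      isUnit_sub_of_notMem hlam hB M' fun h' => ha (by simpa using M'.neg_mem h')
    by_contra hno
    have hall : ∀ t : A, t * h i j + ε * (lam t * lam (h i j)) ∈ M := fun t =>
      not_not.1 fun ht => hno (key t ht)
    have h2 := sub_mem (hall a) (M.mul_mem_left (lam a) (hall 1))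
    rw [map_one, show a * h i j + ε * (lam a * lam (h i j)) -
      lam a * (1 * h i j + ε * (1 * lam (h i j))) = (a - lam a) * h i j by ring] at h2
    exact hi ((Ideal.unit_mul_mem_iff_mem M hu).1 h2)
  push Not at hnt
  have htM : ∀ a : A, lam a - a ∈ M := fun a =>
    (eq_maximal_of_trivial hlam hB hnt M).1.1 (hnt a)
  by_cases he : ε + 1 ∈ M
  · rcases hg with ⟨a, ha⟩ | h1 | hodd | h0 | ⟨a, ha⟩
    · exact absurd (hnt a) ha
    · exact absurd ((eq_maximal_of_trivial hlam hB hnt M).1.2 he) h1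
    · obtain ⟨a, ha⟩ := det_notMem M hh (by simpa using hodd) (skew_mem M hε htM he herm)
      exact absurd (hd a) ha
    · omega
    · exact absurd (hd a) ha
  · refine key 1 fun hm => ?_
    rw [map_one, one_mul, one_mul] at hm
    have h2 : (1 + ε) * h i j ∈ M := by
      have := sub_mem hm (M.mul_mem_left ε (htM (h i j)))
      convert this using 1
      ring
    rcases Ideal.IsPrime.mem_or_mem inferInstance h2 with h3 | h3
    · exact he (by rwa [add_comm] at h3)
    · exact hi h3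

theorem diagonalize (hlam : Function.Involutive lam) (hB : IsFixedRing B A lam)
    (hε : ε * ε = 1) (hlε : lam ε = ε) (M : Ideal A) [M.IsMaximal] :
    ∀ (n : ℕ) (h : Matrix (Fin n) (Fin n) A), IsUnit h → ε • ct lam h = h → GoodForm lam ε M h →
      ∃ d : Fin n → A, Cong lam h (Matrix.diagonal d) := by
  intro n
  induction n with
  | zero => intro h _ _ _; exact ⟨0, 1, isUnit_one, Subsingleton.elim _ _⟩
  | succ n ih =>
    intro h hh herm hg
    obtain ⟨h₁, hc₁, h00⟩ := exists_pivot hlam hB hε hlε M hh herm hg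
    let e : Fin 1 ⊕ Fin n ≃ Fin (n + 1) :=
      (finSumFinEquiv).trans (finCongr (Nat.add_comm 1 n))
    have he0 : e (Sum.inl 0) = 0 := Fin.ext (by simp [e])
    suffices H : ∃ d : Fin 1 ⊕ Fin n → A, Cong lam (h₁.submatrix e e) (Matrix.diagonal d) by
      obtain ⟨d, hd⟩ := H
      refine ⟨d ∘ e.symm, hc₁.trans ?_⟩
      have := hd.submatrix e.symm
      rwa [Matrix.submatrix_submatrix, Equiv.self_comp_symm, Matrix.submatrix_id_id,
        Matrix.submatrix_diagonal_equiv] at this
    have hu₁ : IsUnit (h₁.submatrix e e) := by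
      rw [Matrix.isUnit_iff_isUnit_det, Matrix.det_submatrix_equiv_self,
        ← Matrix.isUnit_iff_isUnit_det]
      exact hc₁.isUnit hh
    have hm₁ : ε • ct lam (h₁.submatrix e e) = h₁.submatrix e e := by
      rw [ct_submatrix]
      conv_rhs => rw [← hc₁.herm hlam herm]
      rfl
    have hεu : IsUnit ε := IsUnit.of_mul_eq_one ε hε
    -- elimination for a matrix in block form with unit pivot
    have elim1 : ∀ g : Matrix (Fin 1 ⊕ Fin n) (Fin 1 ⊕ Fin n) A, IsUnit g → ε • ct lam g = g →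
        g (Sum.inl 0) (Sum.inl 0) ∉ M → ∃ (P : Matrix (Fin 1) (Fin 1) A) (S : Matrix (Fin n) (Fin n) A)
          (p : A), p * g (Sum.inl 0) (Sum.inl 0) = 1 ∧ P 0 0 = g (Sum.inl 0) (Sum.inl 0) ∧
          (∀ k l, S k l = g (Sum.inr k) (Sum.inr l) -
            g (Sum.inr k) (Sum.inl 0) * p * g (Sum.inl 0) (Sum.inr l)) ∧
          Cong lam g (fromBlocks P 0 0 S) := by
      intro g hg' hgh hg0
      have hP : IsUnit g.toBlocks₁₁ := by
        rw [Matrix.isUnit_iff_isUnit_det, Matrix.det_fin_one]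
        exact isUnit_of_notMem hlam hB M hg0 (lam_diag hlam hlε hgh _) hεu
      have hc := cong_schur hlam hε hlε g.toBlocks₁₁ g.toBlocks₁₂ g.toBlocks₂₁ g.toBlocks₂₂ hP
        (by rw [Matrix.fromBlocks_toBlocks]; exact hgh)
      rw [Matrix.fromBlocks_toBlocks] at hc
      refine ⟨_, _, g.toBlocks₁₁⁻¹ 0 0, ?_, rfl, fun k l => ?_, hc⟩
      · have := congrFun (congrFun (Matrix.nonsing_inv_mul g.toBlocks₁₁
          ((Matrix.isUnit_iff_isUnit_det _).1 hP)) 0) 0
        rw [Matrix.mul_apply, Fin.sum_univ_one, Matrix.one_apply_eq] at this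
        exact this
      · simp [Matrix.mul_apply, Matrix.toBlocks₁₂, Matrix.toBlocks₂₁, Matrix.toBlocks₂₂]
    obtain ⟨P, S, p, hp, hP0, hS, hc₂⟩ := elim1 _ hu₁ hm₁ (by
      rw [Matrix.submatrix_apply, he0]; exact h00)
    have hfin : ∀ (P : Matrix (Fin 1) (Fin 1) A) (S : Matrix (Fin n) (Fin n) A),
        IsUnit (fromBlocks P 0 0 S) → ε • ct lam (fromBlocks P 0 0 S) = fromBlocks P 0 0 S →
        GoodForm lam ε M S →
        ∃ d : Fin 1 ⊕ Fin n → A, Cong lam (fromBlocks P 0 0 S) (Matrix.diagonal d) := by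
      intro P S hu hm hgS
      obtain ⟨d, hd⟩ := ih S (isUnit_of_block hu).2 (herm_of_block hm) hgS
      refine ⟨Sum.elim (fun _ => P 0 0) d, ?_⟩
      have h1 : P = Matrix.diagonal (fun _ => P 0 0) := by
        ext a b; fin_cases a; fin_cases b; simp
      rw [← Matrix.fromBlocks_diagonal, ← h1]
      exact cong_block (Cong.refl P) hd
    have hu₂ := hc₂.isUnit hu₁
    have hm₂ := hc₂.herm hlam hm₁
    by_cases hgS : GoodForm lam ε M S
    · obtain ⟨d, hd⟩ := hfin P S hu₂ hm₂ hgS
      exact ⟨d, hc₂.trans hd⟩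
    simp only [GoodForm, not_or, not_exists, not_not] at hgS
    obtain ⟨hnt, he1, -, hn0, hdS⟩ := hgS
    have hloc := fun (x : A) => eq_maximal_of_trivial hlam hB hnt M (x := x)
    let l : Fin n := ⟨0, Nat.pos_of_ne_zero hn0⟩
    obtain ⟨k, hk⟩ := exists_entry_notMem M (show M.IsMaximal from inferInstance).ne_top
      (isUnit_of_block hu₂).2 l
    let C : Matrix (Fin n) (Fin 1) A := Matrix.single k 0 1
    let g := fromBlocks (P + ct lam C * S * C) (ct lam C * S) (S * C) S
    have hcg : Cong lam (fromBlocks P 0 0 S) g := by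
      refine ⟨fromBlocks 1 0 C 1, ?_, ?_⟩
      · rw [Matrix.isUnit_iff_isUnit_det, Matrix.det_fromBlocks_zero₁₂, Matrix.det_one,
          Matrix.det_one, one_mul]
        exact isUnit_one
      · simp only [g, ct_fromBlocks, ct_one, ct_zero, Matrix.fromBlocks_multiply, Matrix.one_mul,
          Matrix.mul_one, Matrix.zero_mul, Matrix.mul_zero, add_zero, zero_add]
    have hC : ∀ a, C a 0 = if a = k then 1 else 0 := fun a => by
      simp [C, Matrix.single_apply, eq_comm]
    have hCS : ∀ b, (ct lam C * S) 0 b = S k b := fun b => by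
      simp [Matrix.mul_apply, ct_apply, hC, apply_ite lam]
    have hSC : ∀ a, (S * C) a 0 = S a k := fun a => by simp [Matrix.mul_apply, hC]
    have hg00 : g (Sum.inl 0) (Sum.inl 0) = P 0 0 + S k k := by
      simp [g, Matrix.mul_apply (M := ct lam C * S), hC, hCS]
    have hP0' : P 0 0 ∉ M := by rw [hP0, Matrix.submatrix_apply, he0]; exact h00
    have hg0 : g (Sum.inl 0) (Sum.inl 0) ∉ M := by
      rw [hg00]
      exact fun hm => hP0' ((M.add_mem_iff_left (hdS k)).1 hm)
    obtain ⟨P', S', p', hp', -, hS', hc₃⟩ := elim1 g (hcg.isUnit hu₂) (hcg.herm hlam hm₂) hg0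
    have hgood : GoodForm lam ε M S' := by
      refine Or.inr (Or.inr (Or.inr (Or.inr ⟨l, fun hm => ?_⟩)))
      rw [hS'] at hm
      simp only [g, Matrix.fromBlocks_apply₂₂, Matrix.fromBlocks_apply₂₁,
        Matrix.fromBlocks_apply₁₂, hSC, hCS] at hm
      have h3 : S l k * p' * S k l ∈ M := by
        have := sub_mem (hdS l) hm
        simpa using this
      rcases Ideal.IsPrime.mem_or_mem inferInstance h3 with h4 | h4
      · rcases Ideal.IsPrime.mem_or_mem inferInstance h4 with h5 | h5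
        · have := skew_mem M hε (fun a => (hloc _).1.1 (hnt a)) ((hloc _).1.1 he1)
            (herm_of_block hm₂) k l
          exact hk (by simpa using sub_mem this h5)
        · exact (show M.IsMaximal from inferInstance).ne_top
            ((Ideal.eq_top_iff_one M).2 (hp' ▸ M.mul_mem_right _ h5))
      · exact hk h4
    obtain ⟨d, hd⟩ := hfin P' S' (hc₃.isUnit (hcg.isUnit hu₂))
      (hc₃.herm hlam (hcg.herm hlam hm₂)) hgood
    exact ⟨d, hc₂.trans (hcg.trans (hc₃.trans hd))⟩

/-- Block normal form of an alternating hermitian matrix. -/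
theorem symplectic_form (hlam : Function.Involutive lam) (hB : IsFixedRing B A lam)
    (ht : ∀ a : A, lam a - a ∈ Ring.jacobson A) (h2 : IsUnit (2 : A)) (M : Ideal A) [M.IsMaximal] :
    ∀ (n : ℕ) (h : Matrix (Fin n) (Fin n) A), IsUnit h → (-1 : A) • ct lam h = h →
      Even n ∧ ∃ h' : Matrix (Fin n) (Fin n) A, Cong lam h h' ∧ ∀ i j : Fin n,
        (i.val / 2 ≠ j.val / 2 → h' i j = 0) ∧
        (i.val / 2 = j.val / 2 → (Even i.val ↔ Even j.val) → h' i j ∈ M) ∧
        (i.val / 2 = j.val / 2 → Even i.val → ¬ Even j.val → h' i j - 1 ∈ M) ∧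
        (i.val / 2 = j.val / 2 → ¬ Even i.val → Even j.val → h' i j + 1 ∈ M) := by
  have htM : ∀ a : A, lam a - a ∈ M := fun a => (eq_maximal_of_trivial hlam hB ht M).1.1 (ht a)
  have hskew : ∀ {ι : Type} {h : Matrix ι ι A}, (-1 : A) • ct lam h = h → ∀ i j,
      h j i + h i j ∈ M := fun hh i j =>
    skew_mem M (by ring) htM (by simp) hh i j
  have hdiag : ∀ {ι : Type} {h : Matrix ι ι A}, (-1 : A) • ct lam h = h → ∀ i, h i i ∈ M := by
    intro ι h hh i
    have := hskew hh i i
    rw [← two_mul] at this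
    exact (Ideal.unit_mul_mem_iff_mem M h2).1 this
  intro n
  induction n using Nat.strong_induction_on with
  | _ n ih =>
    intro h hh herm
    rcases Nat.even_or_odd n with hev | hodd
    swap
    · obtain ⟨i, hi⟩ := det_notMem M hh (by simpa using hodd) (hskew herm)
      exact absurd (hdiag herm i) hi
    refine ⟨hev, ?_⟩
    rcases n with _ | _ | m
    · exact ⟨h, Cong.refl h, fun i => i.elim0⟩
    · exact absurd hev (by decide)
    obtain ⟨j, hj⟩ := exists_entry_notMem M (show M.IsMaximal from inferInstance).ne_top hh 0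
    have hj0 : j ≠ 0 := fun e => hj (by rw [e]; exact hdiag herm 0)
    let σ : Equiv.Perm (Fin (m + 2)) := Equiv.swap 1 j
    have hσ0 : σ 0 = 0 := Equiv.swap_apply_of_ne_of_ne (by simp [Fin.ext_iff]) hj0.symm
    have hσ1 : σ 1 = j := Equiv.swap_apply_left _ _
    let e : Fin 2 ⊕ Fin m ≃ Fin (m + 2) :=
      (finSumFinEquiv).trans (finCongr (Nat.add_comm 2 m))
    have hel : ∀ a : Fin 2, (e (Sum.inl a) : ℕ) = (a : ℕ) := fun a => by simp [e]
    have her : ∀ a : Fin m, (e (Sum.inr a) : ℕ) = 2 + (a : ℕ) := fun a => by simp [e, add_comm]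
    set g₀ := (h.submatrix σ σ).submatrix e e with hg₀
    have hc₀ := cong_perm (lam := lam) h σ
    have hg₀u : IsUnit g₀ := by
      rw [hg₀, Matrix.isUnit_iff_isUnit_det, Matrix.det_submatrix_equiv_self,
        ← Matrix.isUnit_iff_isUnit_det]
      exact hc₀.isUnit hh
    have hg₀h : (-1 : A) • ct lam g₀ = g₀ := by
      rw [hg₀, ct_submatrix]
      conv_rhs => rw [← hc₀.herm hlam herm]
      rfl
    have h10 : g₀ (Sum.inl 1) (Sum.inl 0) ∉ M := by
      have e0 : e (Sum.inl 0) = 0 := Fin.ext (hel 0)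
      have e1 : e (Sum.inl 1) = 1 := Fin.ext (by rw [hel 1]; simp)
      rw [hg₀, Matrix.submatrix_apply, Matrix.submatrix_apply, e0, e1, hσ0, hσ1]
      exact hj
    have h01 : g₀ (Sum.inl 0) (Sum.inl 1) ∉ M := fun hm => h10 (by
      simpa using sub_mem (hskew hg₀h (Sum.inl 0) (Sum.inl 1)) hm)
    obtain ⟨t, ht1⟩ := ((eq_maximal_of_trivial hlam hB ht M).2 h01).exists_right_inv
    let D : Matrix (Fin 2 ⊕ Fin m) (Fin 2 ⊕ Fin m) A := Matrix.diagonal (Sum.elim ![1, t] 1)
    let g := ct lam D * g₀ * D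
    have hcD : Cong lam g₀ g := by
      refine ⟨D, ?_, rfl⟩
      rw [Matrix.isUnit_diagonal, Pi.isUnit_iff]
      rintro (a | a)
      · fin_cases a
        · exact isUnit_one
        · exact IsUnit.of_mul_eq_one _ (by rw [mul_comm]; exact ht1)
      · exact isUnit_one
    have hgu := hcD.isUnit hg₀u
    have hgh := hcD.herm hlam hg₀h
    have hg01 : g (Sum.inl 0) (Sum.inl 1) - 1 ∈ M := by
      have : g (Sum.inl 0) (Sum.inl 1) = 1 := by
        have hctD : ct lam D = Matrix.diagonal (fun x => lam (Sum.elim ![1, t] 1 x)) := by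
          rw [ct, Matrix.diagonal_map (map_zero lam), Matrix.diagonal_transpose]
        simp only [g, D, hctD, Matrix.mul_diagonal, Matrix.diagonal_mul]
        simpa using ht1
      rw [this, sub_self]; exact zero_mem _
    have hg10 : g (Sum.inl 1) (Sum.inl 0) + 1 ∈ M := by
      have := sub_mem (hskew hgh (Sum.inl 0) (Sum.inl 1)) hg01
      convert this using 1
      ring
    have hP : IsUnit g.toBlocks₁₁ := by
      rw [Matrix.isUnit_iff_isUnit_det, Matrix.det_fin_two]
      refine (eq_maximal_of_trivial hlam hB ht M).2 fun hm => ?_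
      simp only [Matrix.toBlocks₁₁, Matrix.of_apply] at hm
      have h3 : g (Sum.inl 0) (Sum.inl 1) * g (Sum.inl 1) (Sum.inl 0) ∈ M := by
        have := sub_mem (M.mul_mem_right (g (Sum.inl 1) (Sum.inl 1)) (hdiag hgh (Sum.inl 0))) hm
        simpa using this
      rcases Ideal.IsPrime.mem_or_mem inferInstance h3 with h4 | h4
      · exact (show M.IsMaximal from inferInstance).ne_top
          ((Ideal.eq_top_iff_one M).2 (by simpa using sub_mem h4 hg01))
      · exact (show M.IsMaximal from inferInstance).ne_top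
          ((Ideal.eq_top_iff_one M).2 (by simpa using sub_mem hg10 h4))
    have hc := cong_schur hlam (ε := (-1 : A)) (by ring) (by simp) g.toBlocks₁₁ g.toBlocks₁₂
      g.toBlocks₂₁ g.toBlocks₂₂ hP (by rw [Matrix.fromBlocks_toBlocks]; exact hgh)
    rw [Matrix.fromBlocks_toBlocks] at hc
    obtain ⟨-, S', hS', hblk⟩ := ih m (by omega) _ (isUnit_of_block (hc.isUnit hgu)).2
      (herm_of_block (hc.herm hlam hgh))
    have htot : Cong lam g₀ (fromBlocks g.toBlocks₁₁ 0 0 S') :=
      hcD.trans (hc.trans (cong_block (Cong.refl _) hS'))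
    have hh' := htot.submatrix e.symm
    rw [hg₀, Matrix.submatrix_submatrix _ _ _ e.symm, Equiv.self_comp_symm,
      Matrix.submatrix_id_id] at hh'
    refine ⟨_, hc₀.trans hh', fun a b => ?_⟩
    obtain ⟨a, rfl⟩ := e.surjective a
    obtain ⟨b, rfl⟩ := e.surjective b
    simp only [Matrix.submatrix_apply, Equiv.symm_apply_apply]
    rcases a with a | a <;> rcases b with b | b
    · simp only [Matrix.fromBlocks_apply₁₁, Matrix.toBlocks₁₁, Matrix.of_apply, hel]
      have d0 := hdiag hgh (Sum.inl (0 : Fin 2))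
      have d1 := hdiag hgh (Sum.inl (1 : Fin 2))
      fin_cases a <;> fin_cases b <;> simp [d0, d1, hg01, hg10]
    · simp only [Matrix.fromBlocks_apply₁₂, Matrix.zero_apply, hel, her]
      refine ⟨fun _ => trivial, ?_, ?_, ?_⟩ <;> intro hab <;> exfalso <;> omega
    · simp only [Matrix.fromBlocks_apply₂₁, Matrix.zero_apply, hel, her]
      refine ⟨fun _ => trivial, ?_, ?_, ?_⟩ <;> intro hab <;> exfalso <;> omega
    · simp only [Matrix.fromBlocks_apply₂₂, her, Nat.even_add, even_two, true_iff]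
      obtain ⟨b1, b2, b3, b4⟩ := hblk a b
      exact ⟨fun hab => b1 (by omega), fun hab => b2 (by omega), fun hab => b3 (by omega),
        fun hab => b4 (by omega)⟩

end Local

end Groth.Agent.RInvLib
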